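import Groth.Agent.RatMapExt.Valuative
import Groth.Agent.ConstrLib.Basic
import Groth.Prelude.Def_EGA43
import Mathlib.AlgebraicGeometry.Morphisms.FinitePresentation
import Mathlib.RingTheory.Adjoin.FG
import Mathlib.LinearAlgebra.TensorProduct.Finiteness

/-! Universal openness at a point of a morphism locally of finite type over a locally Noetherian
scheme: reduction to base changes of finite type and discrete valuation rings. -/

set_option autoImplicit false
set_option backward.isDefEq.respectTransparency false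

namespace Groth.Agent.UnivOpenDVR

open CategoryTheory CategoryTheory.Limits AlgebraicGeometry TopologicalSpace
open scoped TensorProduct

universe u

variable {X Y : Scheme.{u}}

/-- An open neighbourhood in an affine fibre product contains the preimage of an open neighbourhood
from a fibre product with a finitely generated subalgebra. -/
theorem exists_fg_open {R B A : Type u} [CommRing R] [CommRing B] [CommRing A] [Algebra R B] [Algebra R A]
    (t : ↥(Spec (CommRingCat.of (B ⊗[R] A)))) (U : (Spec (CommRingCat.of (B ⊗[R] A))).Opens) (ht : t ∈ U) :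
    ∃ A₀ : Subalgebra R A, A₀.FG ∧ ∃ U₀ : (Spec (CommRingCat.of (B ⊗[R] A₀))).Opens,
      Spec.map (CommRingCat.ofHom
          (Algebra.TensorProduct.map (AlgHom.id R B) A₀.val).toRingHom) t ∈ U₀ ∧
        Spec.map (CommRingCat.ofHom
          (Algebra.TensorProduct.map (AlgHom.id R B) A₀.val).toRingHom) ⁻¹ᵁ U₀ ≤ U := by
  classical
  obtain ⟨_, ⟨h, rfl⟩, hth, hhU⟩ := PrimeSpectrum.isTopologicalBasis_basic_opens.exists_subset_of_mem_open
    (show t ∈ (U : Set ↥(Spec (CommRingCat.of (B ⊗[R] A)))) from ht) U.2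
  obtain ⟨S, hS⟩ := TensorProduct.exists_finset h
  let A₀ := Algebra.adjoin R ((S.image Prod.snd : Finset A) : Set A)
  refine ⟨A₀, Subalgebra.fg_adjoin_finset _, ?_⟩
  obtain ⟨h₀, hh₀⟩ : ∃ h₀, Algebra.TensorProduct.map (AlgHom.id R B) A₀.val h₀ = h := by
    refine ⟨∑ i ∈ S.attach, i.1.1 ⊗ₜ[R]
      (⟨i.1.2, Algebra.subset_adjoin (Finset.mem_image_of_mem _ i.2)⟩ : A₀), ?_⟩
    rw [map_sum, hS]
    simp only [Algebra.TensorProduct.map_tmul, AlgHom.coe_id, id_eq, Subalgebra.coe_val,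
      Finset.sum_attach S fun i => i.1 ⊗ₜ[R] i.2]
  let m := Spec.map (CommRingCat.ofHom (Algebra.TensorProduct.map (AlgHom.id R B) A₀.val).toRingHom)
  have key : ∀ s, m s ∈ (PrimeSpectrum.basicOpen h₀ : Set (PrimeSpectrum (B ⊗[R] A₀))) ↔
      s ∈ (PrimeSpectrum.basicOpen h : Set (PrimeSpectrum (B ⊗[R] A))) := by
    intro s
    show ¬ (Algebra.TensorProduct.map (AlgHom.id R B) A₀.val h₀ ∈ s.asIdeal) ↔ _
    rw [hh₀]
    rfl
  exact ⟨PrimeSpectrum.basicOpen h₀, (key t).mpr hth, fun s hs => hhU ((key s).mp hs)⟩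

/-- The affine case of the reduction to base changes of finite type. -/
theorem image_mem_nhds_affine {R B A : Type u} [CommRing R] [CommRing B] [CommRing A] [Algebra R B]
    [Algebra R A] (f : X ⟶ Y) (x : X) (iB : Spec (CommRingCat.of B) ⟶ X) [IsOpenImmersion iB]
    (iR : Spec (CommRingCat.of R) ⟶ Y) [IsOpenImmersion iR]
    (hf : iB ≫ f = Spec.map (CommRingCat.ofHom (algebraMap R B)) ≫ iR)
    (h : ∀ (Y₀ : Scheme.{u}) (g₀ : Y₀ ⟶ Y) [LocallyOfFiniteType g₀] (x₀ : ↥(pullback f g₀)),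
      pullback.fst f g₀ x₀ = x → EGA43.IsOpenAt (pullback.snd f g₀).base x₀)
    (U : (Spec (CommRingCat.of (B ⊗[R] A))).Opens) (t : ↥(Spec (CommRingCat.of (B ⊗[R] A)))) (ht : t ∈ U)
    (htx : iB (Spec.map (CommRingCat.ofHom Algebra.TensorProduct.includeLeftRingHom) t) = x) :
    Spec.map (CommRingCat.ofHom
        (Algebra.TensorProduct.includeRight (R := R) (A := B) (B := A)).toRingHom) '' U ∈
      nhds (Spec.map (CommRingCat.ofHom
        (Algebra.TensorProduct.includeRight (R := R) (A := B) (B := A)).toRingHom) t) := by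
  obtain ⟨A₀, hA₀, U₀, htU₀, hU₀⟩ := exists_fg_open t U ht
  haveI : Algebra.FiniteType R A₀ := (Subalgebra.fg_iff_finiteType _).mp hA₀
  let q := Spec.map (CommRingCat.ofHom (algebraMap R B))
  let γ₀ : Spec (CommRingCat.of A₀) ⟶ Spec (CommRingCat.of R) := Spec.map (CommRingCat.ofHom (algebraMap R A₀))
  let s' := Spec.map (CommRingCat.ofHom (algebraMap R A))
  let τ : Spec (CommRingCat.of A) ⟶ Spec (CommRingCat.of A₀) := Spec.map (CommRingCat.ofHom A₀.val.toRingHom)
  let ρ := Spec.map (CommRingCat.ofHom (Algebra.TensorProduct.map (AlgHom.id R B) A₀.val).toRingHom)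
  haveI : LocallyOfFiniteType γ₀ := (HasRingHomProperty.Spec_iff (P := @LocallyOfFiniteType)).mpr
    (RingHom.finiteType_algebraMap.mpr inferInstance)
  let g₀ := γ₀ ≫ iR
  let qB : Spec (CommRingCat.of (B ⊗[R] A₀)) ⟶ Spec (CommRingCat.of B) :=
    Spec.map (CommRingCat.ofHom Algebra.TensorProduct.includeLeftRingHom)
  let qA : Spec (CommRingCat.of (B ⊗[R] A₀)) ⟶ Spec (CommRingCat.of A₀) :=
    Spec.map (CommRingCat.ofHom (Algebra.TensorProduct.includeRight (R := R) (A := B) (B := A₀)).toRingHom)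
  let pB : Spec (CommRingCat.of (B ⊗[R] A)) ⟶ Spec (CommRingCat.of B) :=
    Spec.map (CommRingCat.ofHom Algebra.TensorProduct.includeLeftRingHom)
  let pA : Spec (CommRingCat.of (B ⊗[R] A)) ⟶ Spec (CommRingCat.of A) :=
    Spec.map (CommRingCat.ofHom (Algebra.TensorProduct.includeRight (R := R) (A := B) (B := A)).toRingHom)
  have hsq₀ : IsPullback qB qA q γ₀ :=
    IsPullback.of_iso (IsPullback.of_hasPullback q γ₀)
      (pullbackSpecIso R B A₀) (Iso.refl _) (Iso.refl _) (Iso.refl _)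
      ((Category.comp_id _).trans (pullbackSpecIso_hom_fst R B A₀).symm)
      ((Category.comp_id _).trans (pullbackSpecIso_hom_snd R B A₀).symm) (by simp) (by simp)
  have hsq : IsPullback pB pA q s' :=
    IsPullback.of_iso (IsPullback.of_hasPullback q s')
      (pullbackSpecIso R B A) (Iso.refl _) (Iso.refl _) (Iso.refl _)
      ((Category.comp_id _).trans (pullbackSpecIso_hom_fst R B A).symm)
      ((Category.comp_id _).trans (pullbackSpecIso_hom_snd R B A).symm) (by simp) (by simp)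
  have hρB : ρ ≫ qB = pB := by
    simp only [ρ, qB, pB, ← Spec.map_comp]
    congr 1
  have hρA : ρ ≫ qA = pA ≫ τ := by
    simp only [ρ, qA, pA, τ, ← Spec.map_comp]
    congr 1
  have hτ : τ ≫ γ₀ = s' := by
    simp only [τ, γ₀, s', ← Spec.map_comp]
    rfl
  have hsqρ : IsPullback ρ pA qA τ := by
    refine IsPullback.of_right ?_ hρA hsq₀
    rw [hρB, hτ]
    exact hsq
  have hw₀ : (qB ≫ iB) ≫ f = qA ≫ g₀ := by
    rw [Category.assoc, hf, ← Category.assoc, hsq₀.w, Category.assoc]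
  let m₀ : Spec (CommRingCat.of (B ⊗[R] A₀)) ⟶ pullback f g₀ := pullback.lift (qB ≫ iB) qA hw₀
  have hmono : IsPullback qA qB g₀ (iB ≫ f) := by
    refine ⟨⟨by rw [← hw₀, Category.assoc]⟩, ⟨PullbackCone.IsLimit.mk _
      (fun s => hsq₀.lift s.snd s.fst (by rw [← cancel_mono iR, Category.assoc, Category.assoc, ← hf]; exact s.condition.symm))
      (fun s => hsq₀.lift_snd _ _ _) (fun s => hsq₀.lift_fst _ _ _) ?_⟩⟩
    intro s l h1 h2
    apply hsq₀.hom_ext
    · rw [h2, hsq₀.lift_fst]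
    · rw [h1, hsq₀.lift_snd]
  haveI : IsOpenImmersion m₀ := by
    refine MorphismProperty.of_isPullback (P := @IsOpenImmersion) (f' := qB) (g' := m₀)
      (g := iB) (f := pullback.fst f g₀) ?_ inferInstance
    refine (IsPullback.of_right ?_ (pullback.lift_fst _ _ _) (IsPullback.of_hasPullback f g₀).flip).flip
    rw [pullback.lift_snd]
    exact hmono
  have hm₀x : pullback.fst f g₀ (m₀ (ρ t)) = x := by
    rw [← Scheme.Hom.comp_apply, pullback.lift_fst, Scheme.Hom.comp_apply, ← Scheme.Hom.comp_apply ρ, hρB]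
    exact htx
  have h1 : pullback.snd f g₀ '' (m₀ '' U₀) ∈ nhds (pullback.snd f g₀ (m₀ (ρ t))) :=
    h _ g₀ (m₀ (ρ t)) hm₀x _ ((m₀.isOpenEmbedding.isOpenMap _ U₀.2).mem_nhds ⟨_, htU₀, rfl⟩)
  have h2 : τ ⁻¹' (qA '' U₀) ∈ nhds (pA t) := by
    refine τ.continuous.continuousAt ?_
    have e : ∀ s, pullback.snd f g₀ (m₀ s) = qA s := fun s => by
      rw [← Scheme.Hom.comp_apply, pullback.lift_snd]
    rw [Set.image_image] at h1
    simp only [e] at h1
    rw [← Scheme.Hom.comp_apply pA, ← hρA, Scheme.Hom.comp_apply]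
    exact h1
  refine Filter.mem_of_superset h2 ?_
  rintro a ⟨u₀, hu₀, hau⟩
  obtain ⟨c, hc1, hc2⟩ := Scheme.Pullback.exists_preimage_pullback (f := qA) (g := τ) u₀ a hau
  refine ⟨hsqρ.isoPullback.inv c, hU₀ ?_, ?_⟩
  · show ρ _ ∈ U₀
    rw [← Scheme.Hom.comp_apply, hsqρ.isoPullback_inv_fst, hc1]
    exact hu₀
  · show pA _ = a
    rw [← Scheme.Hom.comp_apply, hsqρ.isoPullback_inv_snd, hc2]

/-- Openness at a point of the base change to any scheme follows from openness of the base changes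
of finite type. -/
theorem isUnivOpenAt_of_finiteType (f : X ⟶ Y) (x : X)
    (h : ∀ (Y₀ : Scheme.{u}) (g₀ : Y₀ ⟶ Y) [LocallyOfFiniteType g₀] (x₀ : ↥(pullback f g₀)),
      pullback.fst f g₀ x₀ = x → EGA43.IsOpenAt (pullback.snd f g₀).base x₀) :
    EGA43.IsUnivOpenAt f x := by
  intro Y' g x' hx' N hN
  replace hx' : pullback.fst f g x' = x := hx'
  obtain ⟨N', hN'N, hN'o, hxN'⟩ := mem_nhds_iff.mp hN
  obtain ⟨W, hW, hyW, -⟩ := exists_isAffineOpen_mem_and_subset (x := f x) (U := ⊤) trivial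
  obtain ⟨V, hV, hxV, hVW⟩ := exists_isAffineOpen_mem_and_subset (x := x) (U := f ⁻¹ᵁ W) hyW
  have hy' : g (pullback.snd f g x') = f x := by
    rw [← hx', ← Scheme.Hom.comp_apply, ← pullback.condition, Scheme.Hom.comp_apply]
  obtain ⟨W', hW', hy'W', hW'W⟩ := exists_isAffineOpen_mem_and_subset (x := pullback.snd f g x')
    (U := g ⁻¹ᵁ W) (show g _ ∈ W from hy' ▸ hyW)
  let iY := hW.fromSpec
  let φ := f.appLE W V hVW
  let σ := g.appLE W W' hW'W
  letI := φ.hom.toAlgebra
  letI := σ.hom.toAlgebra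
  have hφ : hV.fromSpec ≫ f = Spec.map φ ≫ iY := (hW.SpecMap_appLE_fromSpec f hV hVW).symm
  have hσ : hW'.fromSpec ≫ g = Spec.map σ ≫ iY := (hW.SpecMap_appLE_fromSpec g hW' hW'W).symm
  let B := Γ(X, V)
  let pB : Spec (CommRingCat.of (Γ(X, V) ⊗[Γ(Y, W)] Γ(Y', W'))) ⟶ Spec Γ(X, V) :=
    Spec.map (CommRingCat.ofHom Algebra.TensorProduct.includeLeftRingHom)
  let pA : Spec (CommRingCat.of (Γ(X, V) ⊗[Γ(Y, W)] Γ(Y', W'))) ⟶ Spec Γ(Y', W') :=
    Spec.map (CommRingCat.ofHom (Algebra.TensorProduct.includeRight (R := Γ(Y, W)) (A := Γ(X, V))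
      (B := Γ(Y', W'))).toRingHom)
  have hsq : IsPullback pB pA (Spec.map φ) (Spec.map σ) :=
    IsPullback.of_iso (IsPullback.of_hasPullback (Spec.map φ) (Spec.map σ))
      (pullbackSpecIso Γ(Y, W) Γ(X, V) Γ(Y', W')) (Iso.refl _) (Iso.refl _) (Iso.refl _)
      ((Category.comp_id _).trans (pullbackSpecIso_hom_fst Γ(Y, W) Γ(X, V) Γ(Y', W')).symm)
      ((Category.comp_id _).trans (pullbackSpecIso_hom_snd Γ(Y, W) Γ(X, V) Γ(Y', W')).symm) (by simp) (by simp)
  let m : Spec (CommRingCat.of (Γ(X, V) ⊗[Γ(Y, W)] Γ(Y', W'))) ⟶ pullback f g :=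
    pullback.lift (pB ≫ hV.fromSpec) (pA ≫ hW'.fromSpec)
      (by rw [Category.assoc, Category.assoc, hφ, hσ, ← Category.assoc, hsq.w, Category.assoc])
  obtain ⟨t, ht⟩ : ∃ t, m t = x' := by
    have hrange : x' ∈ Set.range
        (pullback.map (Spec.map φ) (Spec.map σ) f g hV.fromSpec hW'.fromSpec iY hφ.symm hσ.symm) := by
      rw [Scheme.Pullback.range_map]
      refine ⟨?_, ?_⟩
      · show pullback.fst f g x' ∈ Set.range hV.fromSpec
        rw [hV.range_fromSpec]; exact hx'.symm ▸ hxV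
      · show pullback.snd f g x' ∈ Set.range hW'.fromSpec
        rw [hW'.range_fromSpec]; exact hy'W'
    obtain ⟨t, ht⟩ := hrange
    refine ⟨hsq.isoPullback.inv t, ?_⟩
    rw [← Scheme.Hom.comp_apply, ← ht]
    refine congrArg (fun k : pullback (Spec.map φ) (Spec.map σ) ⟶ pullback f g => k t) ?_
    apply pullback.hom_ext
    · simp only [m, Category.assoc, pullback.lift_fst, pullback.map]
      rw [hsq.isoPullback_inv_fst_assoc]
    · simp only [m, Category.assoc, pullback.lift_snd, pullback.map]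
      rw [hsq.isoPullback_inv_snd_assoc]
  have hkey := image_mem_nhds_affine (R := Γ(Y, W)) (B := Γ(X, V)) (A := Γ(Y', W')) f x hV.fromSpec iY
    hφ h (m ⁻¹ᵁ ⟨N', hN'o⟩) t (show m t ∈ N' from ht ▸ hxN') (by
      rw [← hx', ← ht, ← Scheme.Hom.comp_apply, ← Scheme.Hom.comp_apply, pullback.lift_fst])
  have hsnd : ∀ s, pullback.snd f g (m s) = hW'.fromSpec (pA s) := fun s => by
    rw [← Scheme.Hom.comp_apply, pullback.lift_snd, Scheme.Hom.comp_apply]
  refine Filter.mem_of_superset (x := hW'.fromSpec '' (pA '' (m ⁻¹ᵁ ⟨N', hN'o⟩ :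
    (Spec (CommRingCat.of (Γ(X, V) ⊗[Γ(Y, W)] Γ(Y', W')))).Opens))) ?_ ?_
  · rw [← ht]
    show _ ∈ nhds (pullback.snd f g (m t))
    rw [hsnd]
    exact hW'.fromSpec.isOpenEmbedding.isOpenMap.image_mem_nhds hkey
  · rintro _ ⟨_, ⟨s, hs, rfl⟩, rfl⟩
    exact ⟨m s, hN'N hs, hsnd s⟩

/-- The discrete valuation criterion for openness at a point of a morphism locally of finite type to a
locally Noetherian scheme. -/
theorem isOpenAt_of_dvr {P Z : Scheme.{u}} [IsLocallyNoetherian Z] (p : P ⟶ Z) [LocallyOfFiniteType p]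
    (x₀ : P)
    (h : ∀ η : Z, η ⤳ p x₀ → η ≠ p x₀ → ∀ U : P.Opens, x₀ ∈ U → ∃ u ∈ U, p u = η) :
    EGA43.IsOpenAt p.base x₀ := by
  intro N hN
  obtain ⟨N', hN'N, hN'o, hxN'⟩ := mem_nhds_iff.mp hN
  obtain ⟨W, hW, hyW, -⟩ := exists_isAffineOpen_mem_and_subset (x := p x₀) (U := ⊤) trivial
  obtain ⟨V, hV, hxV, hVle⟩ := exists_isAffineOpen_mem_and_subset (x := x₀)
    (U := ⟨N', hN'o⟩ ⊓ p ⁻¹ᵁ W) ⟨hxN', hyW⟩
  haveI : IsAffine (W : Scheme.{u}) := hW
  haveI : IsAffine (V : Scheme.{u}) := hV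
  haveI : NoetherianSpace (W : Scheme.{u}) := by
    haveI : IsNoetherianRing Γ(Z, W) := IsLocallyNoetherian.component_noetherian ⟨W, hW⟩
    exact (noetherianSpace_iff_of_homeomorph hW.isoSpec.hom.homeomorph.symm).mp inferInstance
  haveI : IsLocallyNoetherian (W : Scheme.{u}) := isLocallyNoetherian_of_isOpenImmersion W.ι
  let pW : (V : Scheme.{u}) ⟶ W := IsOpenImmersion.lift W.ι (V.ι ≫ p) (by
    rintro _ ⟨s, rfl⟩
    rw [Scheme.Opens.range_ι, Scheme.Hom.comp_apply]
    exact (hVle s.2).2)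
  have hpW : pW ≫ W.ι = V.ι ≫ p := IsOpenImmersion.lift_fac _ _ _
  haveI : LocallyOfFiniteType pW := by
    haveI : LocallyOfFiniteType (pW ≫ W.ι) := by rw [hpW]; infer_instance
    exact locallyOfFiniteType_of_comp pW W.ι
  haveI : LocallyOfFinitePresentation pW := LocallyOfFinitePresentation.iff_locallyOfFiniteType.mpr inferInstance
  have hE : Topology.IsConstructible (Set.range pW) := by
    rw [← Set.image_univ]
    exact pW.isConstructible_image Topology.IsConstructible.univ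
  have hmem : Set.range pW ∈ nhds (pW ⟨x₀, hxV⟩) := by
    refine ConstrLib.mem_nhds_of_forall_irreducible fun C hC hCi hyC => ?_
    obtain ⟨ξ, hξ⟩ := QuasiSober.sober hCi hC
    refine ConstrLib.exists_open_subset_of_dense_constructible hCi hE ?_
    have hξE : ξ ∈ Set.range pW := by
      by_cases he : ξ = pW ⟨x₀, hxV⟩
      · exact ⟨_, he.symm⟩
      have hval : ∀ s, W.ι (pW s) = p (V.ι s) := fun s => by
        rw [← Scheme.Hom.comp_apply, hpW, Scheme.Hom.comp_apply]
      have e0 : W.ι (pW ⟨x₀, hxV⟩) = p x₀ := hval _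
      obtain ⟨u, huV, hu⟩ := h (W.ι ξ) (e0 ▸ (hξ.specializes hyC).map W.ι.continuous)
        (fun e => he (W.ι.isOpenEmbedding.injective (e.trans e0.symm))) V hxV
      exact ⟨⟨u, huV⟩, W.ι.isOpenEmbedding.injective ((hval _).trans hu)⟩
    exact hξ.def.symm.subset.trans (closure_mono (Set.singleton_subset_iff.2 ⟨hξE, hξ.mem⟩))
  have := W.ι.isOpenEmbedding.isOpenMap.image_mem_nhds hmem
  rw [← Scheme.Hom.comp_apply, hpW, Scheme.Hom.comp_apply] at this
  refine Filter.mem_of_superset this ?_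
  rintro _ ⟨_, ⟨s, rfl⟩, rfl⟩
  refine ⟨s.1, hN'N (hVle s.2).1, ?_⟩
  show p (V.ι s) = W.ι (pW s)
  rw [← Scheme.Hom.comp_apply, ← Scheme.Hom.comp_apply, hpW]

/-- The discrete valuation criterion for universal openness at a point. -/
theorem isUnivOpenAt_iff_dvr [IsLocallyNoetherian Y] (f : X ⟶ Y) [LocallyOfFiniteType f] (x : X) :
    EGA43.IsUnivOpenAt f x ↔
      ∀ (A : Type u) [CommRing A] [IsDomain A] [IsDiscreteValuationRing A]
        (g : Spec (CommRingCat.of A) ⟶ Y), g.base (IsLocalRing.closedPoint A) = f.base x →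
        ∀ x' : ↥(pullback f g), (pullback.fst f g).base x' = x →
          (pullback.snd f g).base x' = IsLocalRing.closedPoint A →
          ∃ z' : ↥(pullback f g), z' ⤳ x' ∧ (pullback.snd f g).base z' ≠ IsLocalRing.closedPoint A := by
  constructor
  · intro hf A _ _ _ g hg x' hx' hx'c
    have hopen := hf _ g x' hx'
    obtain ⟨V, hV, hxV, -⟩ := exists_isAffineOpen_mem_and_subset (x := x') (U := ⊤) trivial
    haveI : IsLocallyNoetherian (pullback f g) := LocallyOfFiniteType.isLocallyNoetherian (pullback.snd f g)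
    haveI : NoetherianSpace ↥((V : (pullback f g).Opens) : Set ↥(pullback f g)) := by
      haveI : IsNoetherianRing Γ(pullback f g, V) := IsLocallyNoetherian.component_noetherian ⟨V, hV⟩
      exact (noetherianSpace_iff_of_homeomorph hV.isoSpec.hom.homeomorph.symm).mp inferInstance
    let O := (pullback.snd f g).base ⁻¹' ({IsLocalRing.closedPoint A}ᶜ : Set ↥(Spec (CommRingCat.of A)))
    have hO : IsOpen O := IsOpen.preimage (pullback.snd f g).continuous
      (IsLocalRing.isClosed_singleton_closedPoint A).isOpen_compl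
    have hcl : x' ∈ closure O := by
      rw [mem_closure_iff]
      intro N hN hxN
      have hm := mem_of_mem_nhds (hopen N (hN.mem_nhds hxN))
      obtain ⟨M, hM, hMo, hcM⟩ := mem_nhds_iff.mp (hopen N (hN.mem_nhds hxN))
      have hbot : (⟨⊥, Ideal.isPrime_bot⟩ : ↥(Spec (CommRingCat.of A))) ∈ M := by
        refine Specializes.mem_open ?_ hMo hcM
        exact (PrimeSpectrum.le_iff_specializes (⟨⊥, Ideal.isPrime_bot⟩ : PrimeSpectrum A) _).mp bot_le
      obtain ⟨z, hzN, hz⟩ := hM hbot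
      refine ⟨z, hzN, ?_⟩
      show (pullback.snd f g).base z ≠ IsLocalRing.closedPoint A
      intro hzc
      rw [hz] at hzc
      exact IsDiscreteValuationRing.not_isField A
        (IsLocalRing.isField_iff_maximalIdeal_eq.mpr (congrArg PrimeSpectrum.asIdeal hzc).symm)
    obtain ⟨z', hz', hzx⟩ := RatMapExt.exists_specializes_of_mem_closure_inter V.2 hO isClosed_univ hxV
      (by rwa [Set.inter_univ])
    exact ⟨z', hzx, hz'.1⟩
  · intro h
    refine isUnivOpenAt_of_finiteType f x fun Y₀ g₀ _ x₀ hx₀ => ?_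
    haveI : IsLocallyNoetherian Y₀ := LocallyOfFiniteType.isLocallyNoetherian g₀
    refine isOpenAt_of_dvr (pullback.snd f g₀) x₀ fun η hη hne U hxU => ?_
    obtain ⟨A, i1, i2, i3, u, hu, hgen⟩ := RatMapExt.exists_dvr_of_specializes hη hne
    letI := i1; letI := i2; letI := i3
    let l : pullback f (u ≫ g₀) ⟶ pullback f g₀ :=
      pullback.lift (pullback.fst _ _) (pullback.snd _ _ ≫ u) (by rw [pullback.condition, Category.assoc])
    have hl : IsPullback l (pullback.snd f (u ≫ g₀)) (pullback.snd f g₀) u := by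
      refine IsPullback.of_right ?_ (pullback.lift_snd _ _ _) (IsPullback.of_hasPullback f g₀)
      rw [pullback.lift_fst]
      exact IsPullback.of_hasPullback f (u ≫ g₀)
    obtain ⟨c, hc1, hc2⟩ := Scheme.Pullback.exists_preimage_pullback (f := pullback.snd f g₀) (g := u)
      x₀ (IsLocalRing.closedPoint A) hu.symm
    set x' := hl.isoPullback.inv c
    have hlx : l x' = x₀ := by rw [← Scheme.Hom.comp_apply, hl.isoPullback_inv_fst, hc1]
    have hx'c : pullback.snd f (u ≫ g₀) x' = IsLocalRing.closedPoint A := by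
      rw [← Scheme.Hom.comp_apply, hl.isoPullback_inv_snd, hc2]
    have hfst : pullback.fst f (u ≫ g₀) x' = x := by
      rw [← hx₀, ← hlx, ← Scheme.Hom.comp_apply l, pullback.lift_fst]
    have hcl : (u ≫ g₀).base (IsLocalRing.closedPoint A) = f.base x := by
      show (u ≫ g₀) _ = f x
      rw [← hx'c, ← hfst, ← Scheme.Hom.comp_apply, ← Scheme.Hom.comp_apply (pullback.fst f _),
        pullback.condition]
    obtain ⟨z', hz', hzne⟩ := h A (u ≫ g₀) hcl x' hfst hx'c
    refine ⟨l z', (hlx ▸ hz'.map l.continuous).mem_open U.2 hxU, ?_⟩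
    rw [← Scheme.Hom.comp_apply, hl.w, Scheme.Hom.comp_apply]
    set z := pullback.snd f (u ≫ g₀) z'
    have hz : z.asIdeal = ⊥ := by
      rcases eq_or_ne z.asIdeal ⊥ with h' | h'
      · exact h'
      · exact absurd (PrimeSpectrum.ext (IsLocalRing.eq_maximalIdeal (z.isPrime.isMaximal h'))) hzne
    let t : Spec (CommRingCat.of (FractionRing A)) := default
    rw [← hgen t, Scheme.Hom.comp_apply]
    congr 1
    refine PrimeSpectrum.ext ?_
    show z.asIdeal = Ideal.comap (algebraMap A (FractionRing A)) t.asIdeal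
    rw [hz, (eq_bot_or_eq_top t.asIdeal).resolve_right t.isPrime.ne_top]
    exact ((RingHom.injective_iff_ker_eq_bot _).mp (IsFractionRing.injective A (FractionRing A))).symm

end Groth.Agent.UnivOpenDVR
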